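import Cfsg.Agent.H342.EE.Gen
import Cfsg.Agent.H893.EE.D4Struct

/-!
# `Ω₈⁺(4)` has a `D₄`-system (helper342, S3384 T4)
-/

set_option autoImplicit false

namespace Cfsg.Agent.H342.EE

open Cfsg Cfsg.Agent.H865.EE Cfsg.Agent.H893.EE

universe u

theorem mem_four {F : Type*} [Field F] [Fintype F] (hF : Fintype.card F = 4) (O : Om F) (x : F) :
    x = 0 ∨ x = 1 ∨ x = O.ω ∨ x = O.ω + 1 := by
  classical
  have h1 : ({0, 1, O.ω, O.ω + 1} : Finset F) = Finset.univ := by
    apply Finset.eq_univ_of_card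
    rw [hF]
    have h3 : O.ω ≠ O.ω + 1 := fun hh => one_ne_zero (α := F) (by linear_combination -hh)
    have h4 : (1 : F) ≠ O.ω + 1 := fun hh => O.ne0 (by linear_combination -hh)
    rw [Finset.card_insert_of_notMem, Finset.card_insert_of_notMem, Finset.card_insert_of_notMem,
      Finset.card_singleton]
    · rw [Finset.mem_singleton]; exact h3
    · simp only [Finset.mem_insert, Finset.mem_singleton, not_or]
      exact ⟨O.ne1.symm, h4⟩
    · simp only [Finset.mem_insert, Finset.mem_singleton, not_or]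
      exact ⟨zero_ne_one, O.ne0.symm, O.ne11.symm⟩
  have h2 := Finset.mem_univ x
  rw [← h1] at h2
  simpa using h2

theorem iSup_closure {F : Type*} [Field F] [Fintype F] (hF : Fintype.card F = 4) (O : Om F) :
    ⨆ i, Subgroup.closure {omA O i, omB O i} = (⊤ : Subgroup (Om8 F)) := by
  set S : Subgroup (Om8 F) := ⨆ i, Subgroup.closure {omA O i, omB O i} with hS
  have hle : ∀ i, Subgroup.closure {omA O i, omB O i} ≤ S := fun i =>
    le_iSup (fun i => Subgroup.closure {omA O i, omB O i}) i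
  have hK := gen (ω := O.ω) (by rw [pow_two]; exact O.sq) (mem_four hF O)
    (S.map (Omega F (quadFormPlus 4 F)).subtype)
    (fun i => ⟨elA O i, ⟨omA O i, hle i (Subgroup.subset_closure (by simp)), rfl⟩, coA O i⟩)
    (fun i => ⟨elB O i, ⟨omB O i, hle i (Subgroup.subset_closure (by simp)), rfl⟩, coB O i⟩)
  rw [eq_top_iff]
  intro x _
  obtain ⟨y, hy, hyx⟩ := hK x.2
  rwa [← Subtype.ext hyx]

/-- `Ω₈⁺(4)` has a `D₄`-system -/
theorem d4sys (F : Type u) [Field F] [Fintype F] (hF : Fintype.card F = 4) :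
    D4Sys ↥(Cfsg.Omega F (Cfsg.quadFormPlus 4 F)) := by
  obtain ⟨O⟩ := exists_Om hF
  exact d4sys_of O (iSup_closure hF O)

end Cfsg.Agent.H342.EE
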